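import Groth.Agent.SpreadFP.Glue
import Groth.Agent.SpreadFP.Gen
import Groth.Agent.SpreadFP.PseudoMap

/-!
Extension of sections of closed separated morphisms, and of maps to proper schemes, over points with
valuation local rings.
-/

set_option autoImplicit false
set_option linter.style.haveILetI false
universe u

open CategoryTheory Limits AlgebraicGeometry TopologicalSpace

namespace Groth.Agent.CodimOneExt

variable {X Y : Scheme.{u}}

/-- A map from the local ring at a specialization lands in the valuation ring. -/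
lemma mem_range_of_valuationRing {A B : Type u} [CommRing A] [IsDomain A] [ValuationRing A]
    [CommRing B] [IsLocalRing B] {K : Type u} [Field K] [Algebra A K] [IsFractionRing A K]
    (φ : A →+* B) [IsLocalHom φ] (χ : B →+* K) (h : ∀ a, χ (φ a) = algebraMap A K a) (b : B) :
    χ b ∈ (algebraMap A K).range := by
  obtain ⟨a, s, hs, hk⟩ := IsFractionRing.div_surjective (A := A) (χ b)
  have hs0 : (s : A) ≠ 0 := nonZeroDivisors.ne_zero hs
  have hsK : algebraMap A K s ≠ 0 := (map_ne_zero_iff _ (IsFractionRing.injective A K)).2 hs0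
  obtain ⟨c, hc | hc⟩ := ValuationRing.cond a s
  · by_cases ha : a = 0
    · exact ⟨0, by rw [map_zero, ← hk, ha, map_zero, zero_div]⟩
    · have haK : algebraMap A K a ≠ 0 := (map_ne_zero_iff _ (IsFractionRing.injective A K)).2 ha
      have h1 : χ (φ c * b) = 1 := by
        rw [map_mul, h, ← hk, mul_div_assoc', div_eq_one_iff_eq hsK, ← map_mul, mul_comm c a, hc]
      by_cases hcu : IsUnit c
      · obtain ⟨u, rfl⟩ := hcu
        refine ⟨↑u⁻¹, ?_⟩
        rw [map_mul, h] at h1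
        have h2 : algebraMap A K ↑u⁻¹ * algebraMap A K ↑u = 1 := by rw [← map_mul, Units.inv_mul, map_one]
        calc algebraMap A K ↑u⁻¹ = algebraMap A K ↑u⁻¹ * (algebraMap A K ↑u * χ b) := by rw [h1, mul_one]
          _ = χ b := by rw [← mul_assoc, h2, one_mul]
      · exfalso
        have hn : ¬ IsUnit (φ c * b) := fun hu => hcu (IsUnit.of_map φ c (isUnit_of_mul_isUnit_left hu))
        have hu : IsUnit (1 - φ c * b) := (IsLocalRing.isUnit_or_isUnit_one_sub_self _).resolve_left hn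
        have := hu.map χ
        rw [map_sub, map_one, h1, sub_self] at this
        exact not_isUnit_zero this
  · exact ⟨c, by rw [← hk, ← hc, map_mul, mul_div_cancel_left₀ _ hsK]⟩

/-- The generic generization of a point with domain local ring. -/
noncomputable def gen (Y : Scheme.{u}) (y : Y) [IsDomain (Y.presheaf.stalk y)] : Y :=
  Y.fromSpecStalk y (⟨⊥, Ideal.isPrime_bot⟩ : PrimeSpectrum (Y.presheaf.stalk y))

lemma gen_specializes (y : Y) [IsDomain (Y.presheaf.stalk y)] : gen Y y ⤳ y := by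
  have h : gen Y y ∈ Set.range (Y.fromSpecStalk y) := ⟨_, rfl⟩
  rwa [Scheme.range_fromSpecStalk] at h

lemma gen_specializes_of_specializes {y z : Y} [IsDomain (Y.presheaf.stalk y)] (h : z ⤳ y) : gen Y y ⤳ z := by
  obtain ⟨q, rfl⟩ : z ∈ Set.range (Y.fromSpecStalk y) := by rw [Scheme.range_fromSpecStalk]; exact h
  exact ((PrimeSpectrum.le_iff_specializes ⟨⊥, Ideal.isPrime_bot⟩ q).1 bot_le).map (Y.fromSpecStalk y).continuous

lemma gen_mem_gens (y : Y) [IsDomain (Y.presheaf.stalk y)] : gen Y y ∈ SpreadFP.Gens Y := by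
  obtain ⟨x, hx, hxg⟩ := SpreadFP.exists_gen_specializes (gen Y y)
  rwa [(hxg.antisymm (gen_specializes_of_specializes (hxg.trans (gen_specializes y)))).eq] at hx

/-- Dense opens of locally Noetherian schemes contain the generic points. -/
lemma mem_of_dense_of_mem_gens [IsLocallyNoetherian Y] {V : Y.Opens} (hV : Dense (V : Set Y)) {η : Y}
    (hη : η ∈ SpreadFP.Gens Y) : η ∈ V := by
  obtain ⟨W, hW, hηW, -⟩ := exists_isAffineOpen_mem_and_subset (X := Y) (x := η) (U := ⊤) trivial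
  haveI : IsAffine W.toScheme := hW
  haveI : IsNoetherian W.toScheme := { }
  have hfin : (irreducibleComponents ↥W.toScheme).Finite := NoetherianSpace.finite_irreducibleComponents
  let η' : W.toScheme := ⟨η, hηW⟩
  have hη' : η' ∈ SpreadFP.Gens W.toScheme := by
    obtain ⟨x, hx, hxη⟩ := SpreadFP.exists_gen_specializes η'
    have hval : W.ι x = η := SpreadFP.eq_of_gens_specializes hη (hxη.map W.ι.continuous)
    rwa [show η' = x from W.ι.isOpenEmbedding.injective hval.symm]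
  obtain ⟨_, ⟨z, hz, rfl⟩, hzV⟩ := hV.inter_open_nonempty (W.ι '' (SpreadFP.only hfin η' : Set W.toScheme))
    (W.ι.isOpenEmbedding.isOpenMap _ (SpreadFP.only hfin η').2) ⟨η, η', SpreadFP.mem_only hfin hη', rfl⟩
  obtain ⟨ζ, hζ, hζz⟩ := SpreadFP.exists_gen_specializes z
  have : closure ({ζ} : Set W.toScheme) = closure {η'} := by
    by_contra hne
    exact hz ⟨_, ⟨hζ, hne⟩, specializes_iff_mem_closure.1 hζz⟩
  have hs : η' ⤳ z := (inseparable_iff_closure_eq.2 this).eq ▸ hζz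
  exact (hs.map W.ι.continuous).mem_open V.2 hzV

/-- Local extension of a section over a point with valuation local ring. -/
theorem exists_local_extension [IsLocallyNoetherian Y]
    (f : X ⟶ Y) [IsSeparated f] [LocallyOfFiniteType f] (hcl : IsClosedMap f.base)
    (V : Y.Opens) (s : (V : Scheme.{u}) ⟶ X) (hs : s ≫ f = V.ι)
    (y : Y) [hdom : IsDomain (Y.presheaf.stalk y)] [hval : ValuationRing (Y.presheaf.stalk y)]
    (hηV : gen Y y ∈ V) :
    ∃ (W : Y.Opens) (t : (W : Scheme.{u}) ⟶ X), y ∈ W ∧ t ≫ f = W.ι ∧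
      Y.homOfLE (inf_le_left : V ⊓ W ≤ V) ≫ s = Y.homOfLE (inf_le_right : V ⊓ W ≤ W) ≫ t := by
  let K := FractionRing (Y.presheaf.stalk y)
  let j : Spec (CommRingCat.of K) ⟶ Spec (Y.presheaf.stalk y) :=
    Spec.map (CommRingCat.ofHom (algebraMap (Y.presheaf.stalk y) K))
  have hj : ∀ z, (j ≫ Y.fromSpecStalk y) z = gen Y y := by
    intro z
    rw [Scheme.Hom.comp_apply, gen]
    congr 1
    apply PrimeSpectrum.ext
    change Ideal.comap (algebraMap (Y.presheaf.stalk y) K) z.asIdeal = ⊥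
    rw [(Ideal.eq_bot_or_top z.asIdeal).resolve_right z.2.ne_top, ← RingHom.ker_eq_comap_bot]
    exact (RingHom.injective_iff_ker_eq_bot _).1 (IsFractionRing.injective (Y.presheaf.stalk y) K)
  have hr : ∀ (W : Y.Opens), gen Y y ∈ W → Set.range (j ≫ Y.fromSpecStalk y) ⊆ Set.range W.ι := by
    intro W hW
    rintro _ ⟨z, rfl⟩
    rw [Scheme.Opens.range_ι, hj]
    exact hW
  obtain ⟨a, ha⟩ : ∃ a, a ≫ V.ι = j ≫ Y.fromSpecStalk y := ⟨_, IsOpenImmersion.lift_fac _ _ (hr V hηV)⟩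
  let b : Spec (CommRingCat.of K) ⟶ X := a ≫ s
  have hb : b ≫ f = j ≫ Y.fromSpecStalk y := by rw [Category.assoc, hs, ha]
  let p := b (IsLocalRing.closedPoint K)
  have hp : f p = gen Y y := by
    change (b ≫ f) (IsLocalRing.closedPoint K) = _
    rw [hb, hj]
  obtain ⟨x, hpx, rfl⟩ : ∃ x, p ⤳ x ∧ f x = y := by
    have h1 : IsClosed (f '' closure {p}) := hcl _ isClosed_closure
    have h2 : y ∈ f '' closure {p} := by
      refine (closure_minimal (Set.singleton_subset_iff.2 ?_) h1) (specializes_iff_mem_closure.1 (gen_specializes y))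
      exact ⟨p, subset_closure rfl, hp⟩
    obtain ⟨x, hx, hxy⟩ := h2
    exact ⟨x, specializes_iff_mem_closure.2 hx, hxy⟩
  let χ : X.presheaf.stalk x ⟶ CommRingCat.of K :=
    X.presheaf.stalkSpecializes hpx ≫ Scheme.stalkClosedPointTo b
  have hχ : Spec.map χ ≫ X.fromSpecStalk x = b := by
    rw [Spec.map_comp, Category.assoc, Scheme.SpecMap_stalkSpecializes_fromSpecStalk,
      Scheme.Spec_stalkClosedPointTo_fromSpecStalk]
  have hχ' : f.stalkMap x ≫ χ = CommRingCat.ofHom (algebraMap (Y.presheaf.stalk (f x)) K) := by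
    apply Spec.map_injective
    rw [← cancel_mono (Y.fromSpecStalk (f x)), Spec.map_comp, Category.assoc,
      Scheme.SpecMap_stalkMap_fromSpecStalk, reassoc_of% hχ]
    exact hb
  have hmem : ∀ c, χ.hom c ∈ (algebraMap (Y.presheaf.stalk (f x)) K).range := fun c =>
    mem_range_of_valuationRing (f.stalkMap x).hom χ.hom (fun a => congr($hχ' a)) c
  let e : Y.presheaf.stalk (f x) ≃+* (algebraMap (Y.presheaf.stalk (f x)) K).range :=
    RingEquiv.ofBijective (algebraMap (Y.presheaf.stalk (f x)) K).rangeRestrict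
      ⟨fun u v huv => IsFractionRing.injective (Y.presheaf.stalk (f x)) K (congrArg Subtype.val huv),
        (algebraMap (Y.presheaf.stalk (f x)) K).rangeRestrict_surjective⟩
  let ψ : X.presheaf.stalk x ⟶ Y.presheaf.stalk (f x) :=
    CommRingCat.ofHom (e.symm.toRingHom.comp (χ.hom.codRestrict _ hmem))
  have hψ : ψ ≫ CommRingCat.ofHom (algebraMap (Y.presheaf.stalk (f x)) K) = χ := by
    ext c
    exact congrArg Subtype.val (e.apply_symm_apply ⟨χ.hom c, hmem c⟩)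
  have hψ' : f.stalkMap x ≫ ψ = 𝟙 _ := by
    ext c
    apply IsFractionRing.injective (Y.presheaf.stalk (f x)) K
    have := congr($hψ (f.stalkMap x c))
    exact this.trans congr($hχ' c)
  let l : Spec (Y.presheaf.stalk (f x)) ⟶ X := Spec.map ψ ≫ X.fromSpecStalk x
  have hl : l ≫ f = Y.fromSpecStalk (f x) ≫ 𝟙 Y := by
    rw [Category.assoc, ← Scheme.SpecMap_stalkMap_fromSpecStalk, ← Spec.map_comp_assoc, hψ',
      Spec.map_id, Category.id_comp, Category.comp_id]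
  have hjl : j ≫ l = b := by
    rw [← Category.assoc, ← Spec.map_comp, hψ, hχ]
  obtain ⟨U₁, hyU₁, t, ht₁, ht₂⟩ := spread_out_of_isGermInjective' (𝟙 Y) f l hl
  rw [Category.comp_id] at ht₂
  obtain ⟨W, hyW, hW, hWle, hinj⟩ := Y.exists_le_and_germ_injective (f x) U₁ hyU₁
  haveI : IsDomain Γ(Y, W) := hinj.isDomain
  haveI : IsAffine W.toScheme := hW
  haveI : Nonempty W.toScheme := ⟨⟨f x, hyW⟩⟩
  haveI : IsDomain Γ(W.toScheme, ⊤) := W.topIso.commRingCatIsoToRingEquiv.toMulEquiv.isDomain _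
  haveI : IsIntegral W.toScheme := isIntegral_of_isAffine_of_isDomain W.toScheme
  have hηW : gen Y (f x) ∈ W := (gen_specializes (f x)).mem_open W.2 hyW
  refine ⟨W, Y.homOfLE hWle ≫ t, hyW, by rw [Category.assoc, ht₂, Scheme.homOfLE_ι], ?_⟩
  haveI : IsReduced (V ⊓ W : Y.Opens).toScheme :=
    isReduced_of_isOpenImmersion (Y.homOfLE (inf_le_right : V ⊓ W ≤ W))
  obtain ⟨c, hc⟩ : ∃ c, c ≫ (V ⊓ W : Y.Opens).ι = j ≫ Y.fromSpecStalk (f x) :=
    ⟨_, IsOpenImmersion.lift_fac _ _ (hr (V ⊓ W : Y.Opens) ⟨hηV, hηW⟩)⟩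
  haveI : IsDominant c := by
    refine ⟨fun w => ?_⟩
    obtain ⟨z⟩ : Nonempty (Spec (CommRingCat.of K)) := inferInstance
    have hz : (V ⊓ W : Y.Opens).ι (c z) = gen Y (f x) := by rw [← Scheme.Hom.comp_apply, hc, hj]
    refine closure_mono (Set.singleton_subset_iff.2 (Set.mem_range_self z)) (specializes_iff_mem_closure.1 ?_)
    rw [← (V ⊓ W : Y.Opens).ι.isOpenEmbedding.isInducing.specializes_iff, hz]
    have h1 : W.ι (genericPoint W.toScheme) ⤳ f x :=
      (genericPoint_specializes (α := W.toScheme) ⟨f x, hyW⟩).map W.ι.continuous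
    have h2 : W.ι (genericPoint W.toScheme) ⤳ (V ⊓ W : Y.Opens).ι w :=
      (genericPoint_specializes (α := W.toScheme) ⟨w.1, w.2.2⟩).map W.ι.continuous
    exact (gen_specializes_of_specializes h1).trans h2
  refine ext_of_isDominant_of_isSeparated f ?_ c ?_
  · simp only [Category.assoc, hs, ht₂, Scheme.homOfLE_ι]
  · have h1 : c ≫ Y.homOfLE (inf_le_left : V ⊓ W ≤ V) = a := by
      rw [← cancel_mono V.ι, Category.assoc, Scheme.homOfLE_ι, hc, ha]
    have h2 : c ≫ Y.homOfLE (inf_le_right : V ⊓ W ≤ W) ≫ Y.homOfLE hWle = j ≫ U₁.fromSpecStalkOfMem (f x) hyU₁ := by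
      rw [← cancel_mono U₁.ι]
      simp [hc]
    rw [reassoc_of% h1, reassoc_of% h2, ← ht₁, hjl]

/-- A morphism on a dense open to a separated scheme extends to the union of all its local
extensions. -/
theorem exists_glue_extensions {S T : Scheme.{u}} [IsReduced Y] (p : T ⟶ S) [IsSeparated p] (q : Y ⟶ S)
    (V : Y.Opens) (hV : Dense (V : Set Y)) (g : (V : Scheme.{u}) ⟶ T) (hg : g ≫ p = V.ι ≫ q)
    (P : Y → Prop) (hP : ∀ y, P y → ∃ (W : Y.Opens) (t : (W : Scheme.{u}) ⟶ T), y ∈ W ∧ t ≫ p = W.ι ≫ q ∧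
      Y.homOfLE (inf_le_left : V ⊓ W ≤ V) ≫ g = Y.homOfLE (inf_le_right : V ⊓ W ≤ W) ≫ t) :
    ∃ (U : Y.Opens) (hVU : V ≤ U) (g' : (U : Scheme.{u}) ⟶ T), g' ≫ p = U.ι ≫ q ∧
      Y.homOfLE hVU ≫ g' = g ∧ ∀ y, P y → y ∈ U := by
  let I := Σ W : Y.Opens, { t : (W : Scheme.{u}) ⟶ T // t ≫ p = W.ι ≫ q ∧
      Y.homOfLE (inf_le_left : V ⊓ W ≤ V) ≫ g = Y.homOfLE (inf_le_right : V ⊓ W ≤ W) ≫ t }
  let w : I → Y.Opens := fun i => i.1
  have hcompat : ∀ i j : I, Y.homOfLE (inf_le_left : w i ⊓ w j ≤ w i) ≫ i.2.1 =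
      Y.homOfLE (inf_le_right : w i ⊓ w j ≤ w j) ≫ j.2.1 := by
    rintro ⟨A, a, ha₁, ha₂⟩ ⟨B, b, hb₁, hb₂⟩
    show Y.homOfLE (inf_le_left : A ⊓ B ≤ A) ≫ a = Y.homOfLE (inf_le_right : A ⊓ B ≤ B) ≫ b
    haveI : IsReduced (A ⊓ B : Y.Opens).toScheme := isReduced_of_isOpenImmersion (A ⊓ B : Y.Opens).ι
    haveI : IsDominant ((A ⊓ B : Y.Opens).ι ⁻¹ᵁ V).ι := by
      refine ⟨?_⟩
      rw [DenseRange, Scheme.Opens.range_ι]
      exact hV.preimage (A ⊓ B : Y.Opens).ι.isOpenEmbedding.isOpenMap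
    refine ext_of_isDominant_of_isSeparated p (by simp only [Category.assoc, ha₁, hb₁, Scheme.homOfLE_ι_assoc])
      ((A ⊓ B : Y.Opens).ι ⁻¹ᵁ V).ι ?_
    let O := (A ⊓ B : Y.Opens).ι ⁻¹ᵁ V
    have hr : Set.range (O.ι ≫ (A ⊓ B : Y.Opens).ι) ⊆ Set.range (V ⊓ (A ⊓ B) : Y.Opens).ι := by
      rw [Scheme.Opens.range_ι]
      rintro _ ⟨z, rfl⟩
      exact ⟨z.2, (O.ι z).2⟩
    have h0 := IsOpenImmersion.lift_fac (V ⊓ (A ⊓ B) : Y.Opens).ι (O.ι ≫ (A ⊓ B : Y.Opens).ι) hr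
    set l := IsOpenImmersion.lift (V ⊓ (A ⊓ B) : Y.Opens).ι (O.ι ≫ (A ⊓ B : Y.Opens).ι) hr with hl
    have hA : O.ι ≫ Y.homOfLE (inf_le_left : A ⊓ B ≤ A) =
        l ≫ Y.homOfLE (inf_le_inf_left V inf_le_left : V ⊓ (A ⊓ B) ≤ V ⊓ A) ≫ Y.homOfLE inf_le_right := by
      rw [← cancel_mono A.ι]; simp [h0, O]
    have hB : O.ι ≫ Y.homOfLE (inf_le_right : A ⊓ B ≤ B) =
        l ≫ Y.homOfLE (inf_le_inf_left V inf_le_right : V ⊓ (A ⊓ B) ≤ V ⊓ B) ≫ Y.homOfLE inf_le_right := by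
      rw [← cancel_mono B.ι]; simp [h0, O]
    change O.ι ≫ _ ≫ a = O.ι ≫ _ ≫ b
    rw [reassoc_of% hA, reassoc_of% hB, ← ha₂, ← hb₂, Scheme.homOfLE_homOfLE_assoc, Scheme.homOfLE_homOfLE_assoc]
  obtain ⟨G, hG⟩ := SpreadFP.exists_glue w (fun i => i.2.1) hcompat
  let i₀ : I := ⟨V, g, hg, rfl⟩
  refine ⟨⨆ i, w i, le_iSup w i₀, G, ?_, hG i₀, fun y hy => ?_⟩
  · refine SpreadFP.hom_ext_of_locally _ _ fun z => ?_
    obtain ⟨i, hi⟩ := Opens.mem_iSup.1 z.2
    refine ⟨(⨆ i, w i).ι ⁻¹ᵁ w i, hi, ?_⟩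
    have e : ((⨆ i, w i).ι ⁻¹ᵁ w i).ι = ((⨆ i, w i).ι ∣_ w i) ≫ Y.homOfLE (le_iSup w i) := by
      rw [← cancel_mono (⨆ i, w i).ι, Category.assoc, Scheme.homOfLE_ι, morphismRestrict_ι]
    rw [e, Category.assoc, reassoc_of% (hG i), i.2.2.1, Category.assoc, Scheme.homOfLE_ι_assoc]
  · obtain ⟨W, t, hyW, ht₁, ht₂⟩ := hP y hy
    exact Opens.mem_iSup.2 ⟨⟨W, t, ht₁, ht₂⟩, hyW⟩

/-- Local extension of maps to proper schemes over points with valuation local ring. -/
theorem exists_local_extension_proper [IsLocallyNoetherian Y] {S T : Scheme.{u}}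
    (p : T ⟶ S) [IsProper p] (q : Y ⟶ S) (V : Y.Opens) (g : (V : Scheme.{u}) ⟶ T) (hg : g ≫ p = V.ι ≫ q)
    (y : Y) [IsDomain (Y.presheaf.stalk y)] [ValuationRing (Y.presheaf.stalk y)] (hηV : gen Y y ∈ V) :
    ∃ (W : Y.Opens) (t : (W : Scheme.{u}) ⟶ T), y ∈ W ∧ t ≫ p = W.ι ≫ q ∧
      Y.homOfLE (inf_le_left : V ⊓ W ≤ V) ≫ g = Y.homOfLE (inf_le_right : V ⊓ W ≤ W) ≫ t := by
  haveI : IsProper (pullback.snd p q) :=
    MorphismProperty.of_isPullback (IsPullback.of_hasPullback p q) ‹IsProper p›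
  obtain ⟨W, t, hy, ht₁, ht₂⟩ := exists_local_extension (pullback.snd p q) (pullback.snd p q).isClosedMap
    V (pullback.lift g V.ι hg) (pullback.lift_snd _ _ _) y hηV
  refine ⟨W, t ≫ pullback.fst p q, hy, ?_, ?_⟩
  · rw [Category.assoc, pullback.condition, reassoc_of% ht₁]
  · rw [← reassoc_of% ht₂, pullback.lift_fst]

end Groth.Agent.CodimOneExt
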