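import Mathlib

/-!
Dimensions of local rings along generization.
-/

set_option autoImplicit false
universe u

open CategoryTheory AlgebraicGeometry

namespace Groth.Agent.CodimOneExt

/-- Local rings at generizations have smaller dimension. -/
theorem ringKrullDim_stalk_le_of_specializes {X : Scheme.{u}} {y q : X} (h : y ⤳ q) :
    ringKrullDim (X.presheaf.stalk y) ≤ ringKrullDim (X.presheaf.stalk q) := by
  have hcomm := Scheme.SpecMap_stalkSpecializes_fromSpecStalk (X := X) h
  let φ := Spec.map (X.presheaf.stalkSpecializes h)
  have hemb : Topology.IsEmbedding φ := by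
    have : Topology.IsEmbedding (X.fromSpecStalk q ∘ φ) := by
      have h2 := (X.fromSpecStalk y).isEmbedding
      rwa [← hcomm] at h2
    exact Topology.IsEmbedding.of_comp φ.continuous (X.fromSpecStalk q).continuous this
  let F : PrimeSpectrum (X.presheaf.stalk y) → PrimeSpectrum (X.presheaf.stalk q) :=
    PrimeSpectrum.comap (X.presheaf.stalkSpecializes h).hom
  refine Order.krullDim_le_of_strictMono F fun a b hab => ?_
  have h1 : F a ≤ F b := Ideal.comap_mono hab.le
  exact lt_of_le_of_ne h1 fun he => hab.ne (hemb.injective he)

end Groth.Agent.CodimOneExt
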